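import Mathlib

/-!
# A truncation identity for λ-series

If a series `P` vanishing above degree `c` satisfies `P (1 + t)^(g+1) = (1 + (1+u) t)^(g+c+1)`, then
`C(g+c+1, c+1) u^(c+1) = 0`.
-/

set_option autoImplicit false

open PowerSeries Finset

noncomputable section

namespace Groth.Agent.AVEmbLib

theorem coeff_term_eq_zero {R : Type*} [CommRing R] (a : R) {i c j : ℕ} (hi : i ≤ c) (hj : c < j) :
    coeff j (C a * X ^ i * (1 + X) ^ (c - i) : R⟦X⟧) = 0 := by
  have e : (C a * X ^ i * (1 + X) ^ (c - i) : R⟦X⟧) =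
      ((Polynomial.C a * Polynomial.X ^ i * (1 + Polynomial.X) ^ (c - i) : Polynomial R) : R⟦X⟧) := by
    push_cast
    rfl
  rw [e, Polynomial.coeff_coe]
  refine Polynomial.coeff_eq_zero_of_natDegree_lt (lt_of_le_of_lt ?_ hj)
  refine Polynomial.natDegree_mul_le.trans ?_
  refine (add_le_add (Polynomial.natDegree_C_mul_X_pow_le _ _) Polynomial.natDegree_pow_le).trans ?_
  have h1 : (1 + Polynomial.X : Polynomial R).natDegree ≤ 1 :=
    (Polynomial.natDegree_add_le _ _).trans (by simp [Polynomial.natDegree_X_le])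
  calc i + (c - i) * (1 + Polynomial.X : Polynomial R).natDegree ≤ i + (c - i) * 1 := by gcongr
    _ = c := by omega

theorem choose_mul_pow_eq_zero {R : Type*} [CommRing R] (P : R⟦X⟧) (u : R) (g c : ℕ)
    (hP : ∀ j, c < j → coeff j P = 0)
    (h : P * (1 + X) ^ (g + 1) = (1 + C (1 + u) * X) ^ (g + c + 1)) :
    ((g + c + 1).choose (c + 1) : R) * u ^ (c + 1) = 0 := by
  let m := g + c + 1
  let term : ℕ → R⟦X⟧ := fun i => C ((m.choose i : R) * u ^ i) * X ^ i * (1 + X) ^ (m - i)
  have hexp : (1 + C (1 + u) * X) ^ m = ∑ i ∈ range (m + 1), term i := by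
    rw [show (1 + C (1 + u) * X : R⟦X⟧) = C u * X + (1 + X) by rw [map_add, map_one]; ring, add_pow]
    refine sum_congr rfl fun i _ => ?_
    simp only [term, map_mul, map_pow, map_natCast]
    ring
  let Q : R⟦X⟧ := ∑ i ∈ range (c + 1), C ((m.choose i : R) * u ^ i) * X ^ i * (1 + X) ^ (c - i)
  let W : R⟦X⟧ := ∑ l ∈ range (g + 1), C ((m.choose (c + 1 + l) : R) * u ^ (c + 1 + l)) * X ^ l * (1 + X) ^ (g - l)
  have hsplit : (1 + C (1 + u) * X) ^ m = Q * (1 + X) ^ (g + 1) + X ^ (c + 1) * W := by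
    rw [hexp, show m + 1 = (c + 1) + (g + 1) by omega, sum_range_add, Finset.sum_mul, Finset.mul_sum]
    refine congrArg₂ (· + ·) (sum_congr rfl fun i hi => ?_) (sum_congr rfl fun l hl => ?_)
    · rw [mem_range] at hi
      simp only [term]
      rw [show m - i = (c - i) + (g + 1) by omega, pow_add]
      ring
    · rw [mem_range] at hl
      simp only [term]
      rw [show m - (c + 1 + l) = g - l by omega, pow_add X (c + 1) l]
      ring
  have hT : (P - Q) * (1 + X) ^ (g + 1) = X ^ (c + 1) * W := by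
    rw [sub_mul, h, hsplit]; ring
  obtain ⟨V, hV⟩ : IsUnit ((1 + X : R⟦X⟧) ^ (g + 1)) :=
    (isUnit_iff_constantCoeff.2 (by simp)).pow _
  have hT' : P - Q = X ^ (c + 1) * (W * ((V⁻¹ : R⟦X⟧ˣ) : R⟦X⟧)) := by
    rw [← mul_assoc, ← hT, ← hV, mul_assoc, Units.mul_inv, mul_one]
  have hT0 : P - Q = 0 := by
    ext j
    rw [map_zero]
    by_cases hj : c < j
    · rw [map_sub, hP j hj, map_sum, sum_eq_zero fun i hi => coeff_term_eq_zero _ (by rw [mem_range] at hi; omega) hj,
        sub_zero]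
    · rw [hT', coeff_X_pow_mul', if_neg (by omega)]
  rw [hT0, zero_mul] at hT
  have h1 := congrArg (coeff (c + 1)) hT.symm
  rw [coeff_X_pow_mul', if_pos le_rfl, Nat.sub_self, coeff_zero_eq_constantCoeff_apply, map_zero, map_sum,
    sum_eq_single_of_mem 0 (by simp) fun l _ hl => by simp [zero_pow hl]] at h1
  simpa [m] using h1

end Groth.Agent.AVEmbLib
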