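import Groth.Agent.KVbLib.Lam
import Groth.Agent.KVbLib.Rank
import Groth.Agent.CurveLib.Euler
import Groth.Agent.HilbLib.Multi
import Groth.Prelude.Def_FGA
import Groth.Agent.DCohLib.ProjPerf
import Groth.Agent.AmpleLib.Pullback
import Groth.Agent.KVbLib.LineRule

/-!
# Classes in K₀ of vector bundles: free modules, lines, Euler characteristics, intersection numbers
-/

set_option autoImplicit false
set_option backward.isDefEq.respectTransparency false
set_option linter.style.haveILetI false
set_option linter.unusedSectionVars false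

universe u

open CategoryTheory CategoryTheory.Limits AlgebraicGeometry PowerSeries
open Groth.Agent.DCohLib Groth.Agent.PullbackMod Groth.Agent.KVb

noncomputable section

namespace Groth.Agent.AVEmbLib

variable {X : Scheme.{u}}

local notation "c" => KRR.cl X

theorem cl_freeMod : ∀ N : ℕ, toKR (c (FlatMod.freeMod X N)) = (N : KR X)
  | 0 => by
    rw [cl_of_isZero ((IsZero.iff_id_eq_zero _).2 (Sigma.hom_ext _ _ fun i => i.elim0)), map_zero, Nat.cast_zero]
  | N + 1 => by
    let e := freeModBiprod X N 1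
    let e1 : FlatMod.freeMod X 1 ≅ Coh.structureModule X :=
      { hom := Sigma.desc fun _ => 𝟙 _
        inv := Sigma.ι (fun _ : Fin 1 => Coh.structureModule X) 0
        hom_inv_id := Sigma.hom_ext _ _ fun i => by
          obtain rfl : i = 0 := Subsingleton.elim _ _
          simp
        inv_hom_id := by simp }
    let S := ShortComplex.mk ((biprod.inl : FlatMod.freeMod X N ⟶ _) ≫ e.hom)
      (e.inv ≫ biprod.snd ≫ e1.hom) (by simp)
    have hS : S.ShortExact := ShortComplex.shortExact_of_iso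
      (S₁ := ShortComplex.mk (biprod.inl : FlatMod.freeMod X N ⟶ _ ⊞ FlatMod.freeMod X 1) biprod.snd biprod.inl_snd)
      (ShortComplex.isoMk (Iso.refl _) e e1 (by simp [S]) (by simp [S]))
      (ShortComplex.Splitting.ofHasBinaryBiproduct _ _).shortExact
    have hO : FlatMod.IsFinLocFree (Coh.structureModule X) := DCohLib.isFinLocFree_iso e1 (isFinLocFree_freeMod 1)
    have h := congrArg toKR (cl_add hS (isFinLocFree_freeMod N) (isFinLocFree_freeMod (N + 1)) hO)
    rw [map_add] at h
    rw [show toKR (c (FlatMod.freeMod X (N + 1))) = _ from h, cl_freeMod N, toKR_one]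
    push_cast
    rfl

variable (hext : HasExt X)

theorem fibreRank_structureModule (x : X) : fibreRank (Coh.structureModule X) x = 1 := by
  exact (isFinLocFreeOfRank_iff isFinLocFree_one 1).1 (CurveLib.isFinLocFreeOfRank_one ParaFLib.isInvertible_structureModule) x

/-- Above the rank the exterior powers vanish. -/
theorem coeff_lamSer_eq_zero {E : X.Modules} (hE : FlatMod.IsFinLocFree E) {r : ℕ}
    (hr : ∀ x, fibreRank E x = r) {j : ℕ} (hj : r < j) : coeff j (lamSer hext (c E)) = 0 := by
  obtain ⟨L, hLf, hL⟩ := hext j E hE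
  rw [lamSer_cl hext hE, ser, coeff_mk, extCl_eq hext hE hL, cl_of_isZero
    (isZero_of_rank_zero hLf fun x => by rw [(extPow_flf hE hL).2 x, hr x, Nat.choose_eq_zero_of_lt hj]), map_zero]

theorem lamSer_line {E : X.Modules} (hE : FlatMod.IsFinLocFree E) (hr : ∀ x, fibreRank E x = 1) :
    lamSer hext (c E) = (1 + PowerSeries.C (toKR (c E)) * PowerSeries.X : PowerSeries (KR X)) := by
  ext j
  rcases j with _ | _ | j
  · rw [coeff_zero_eq_constantCoeff_apply, constantCoeff_lamSer]
    simp
  · rw [coeff_one_lamSer]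
    simp
  · rw [coeff_lamSer_eq_zero hext hE hr (by omega)]
    simp [coeff_X, coeff_one]

theorem lamSer_nsmul (x : SGA6.Kvb X) : ∀ n : ℕ, lamSer hext (n • x) = lamSer hext x ^ n
  | 0 => by rw [zero_nsmul, lamSer_zero, pow_zero]
  | n + 1 => by rw [succ_nsmul, lamSer_add, lamSer_nsmul x n, pow_succ]

theorem cl_tensorMod {E F : X.Modules} (hE : FlatMod.IsFinLocFree E) (hF : FlatMod.IsFinLocFree F) :
    toKR (c (CohB1.tensorMod E F)) = toKR (c E) * toKR (c F) :=
  (mul_cl hE hF).symm

theorem cl_mul_inverse {E F : X.Modules} (hE : FlatMod.IsFinLocFree E) (hF : FlatMod.IsFinLocFree F)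
    (e : CohB1.tensorMod E F ≅ Coh.structureModule X) : toKR (c E) * toKR (c F) = 1 := by
  rw [← cl_tensorMod hE hF, cl_iso e, toKR_one]

/-- Inverse image of an Euler type sequence. -/
theorem cl_euler_pullback {P : Scheme.{u}} (f : X ⟶ P) {S : ShortComplex P.Modules} (hS : S.ShortExact)
    {E O : P.Modules} (hE : FlatMod.IsFinLocFree E) (hO : FlatMod.IsFinLocFree O) {N : ℕ}
    (e1 : S.X₁ ≅ CohB1.tensorMod E O) (e2 : S.X₂ ≅ FlatMod.freeMod P N) (e3 : S.X₃ ≅ O) :
    (N : KR X) = toKR (c ((Scheme.Modules.pullback f).obj E)) * toKR (c ((Scheme.Modules.pullback f).obj O)) +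
      toKR (c ((Scheme.Modules.pullback f).obj O)) := by
  have hfE := isFinLocFree_pullback f _ hE
  have hfO := isFinLocFree_pullback f _ hO
  have h1 : FlatMod.IsFinLocFree S.X₁ := DCohLib.isFinLocFree_iso e1.symm (isFinLocFree_ten hE hO)
  have h2 := DCohLib.isFinLocFree_iso e2.symm (isFinLocFree_freeMod N)
  have h3 := DCohLib.isFinLocFree_iso e3.symm hO
  have h := congrArg toKR (cl_add (shortExact_pullback_of_isFlat (f := f) S hS (isFlat_of_isFinLocFree _ h3))
    (isFinLocFree_pullback f _ h1) (isFinLocFree_pullback f _ h2) (isFinLocFree_pullback f _ h3))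
  rw [map_add] at h
  rw [← cl_freeMod N, ← cl_iso ((Scheme.Modules.pullback f).mapIso e2 ≪≫ pullFreeIso f N), ← cl_tensorMod hfE hfO,
    ← cl_iso ((Scheme.Modules.pullback f).mapIso e1 ≪≫ AmpleLib.pullTensor f _ _),
    ← cl_iso ((Scheme.Modules.pullback f).mapIso e3)]
  exact h

/-- Euler characteristics are additive on classes. -/
theorem exists_chi (k : Type u) [Field k] [X.Over (Spec (CommRingCat.of k))] [IsProper (X ↘ Spec (CommRingCat.of k))] :
    ∃ χ : KR X →+ ℤ, ∀ E, FlatMod.IsFinLocFree E → χ (toKR (c E)) = Curv2.euler k X E := by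
  haveI := EulerIneqLib.isNoetherian_proper (X := X) k
  obtain ⟨g, hg⟩ := RegLib.exists_lift (P := KRR.vbP X) (fun E => Curv2.euler k X E) fun {S} hS h₁ h₂ h₃ =>
    CurveLib.euler_shortExact hS (CurveLib.isCoh_of_isFinLocFree h₁) (CurveLib.isCoh_of_isFinLocFree h₂)
      (CurveLib.isCoh_of_isFinLocFree h₃)
  exact ⟨g, fun E hE => hg E hE⟩

theorem flf_tensorList {M : X.Modules} (hM : FlatMod.IsFinLocFree M) : ∀ l : List X.Modules, (∀ a ∈ l, a = M) →
    FlatMod.IsFinLocFree (FGA.tensorList l) ∧ toKR (c (FGA.tensorList l)) = toKR (c M) ^ l.length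
  | [], _ => ⟨isFinLocFree_one, by rw [List.length_nil, pow_zero]; exact toKR_one⟩
  | a :: l, h => by
    obtain rfl : a = M := h a List.mem_cons_self
    obtain ⟨h1, h2⟩ := flf_tensorList hM l fun b hb => h b (List.mem_cons_of_mem _ hb)
    refine ⟨isFinLocFree_ten hM h1, ?_⟩
    rw [List.length_cons, pow_succ', ← h2, mul_cl hM h1]
    rfl

/-- The self-intersection number is the Euler characteristic of `(1 - [M])^g`. -/
theorem intNum_eq {k : Type u} [Field k] [X.Over (Spec (CommRingCat.of k))] [IsProper (X ↘ Spec (CommRingCat.of k))]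
    {χ : KR X →+ ℤ} (hχ : ∀ E, FlatMod.IsFinLocFree E → χ (toKR (c E)) = Curv2.euler k X E)
    {M : X.Modules} (hM : FlatMod.IsFinLocFree M) {d : ℕ} (hd : topologicalKrullDim X ≤ d) (g : ℕ) :
    FGA.intNum k X d (fun _ : Fin g => M) (Coh.structureModule X) = χ ((1 - toKR (c M)) ^ g) := by
  have h : (1 - toKR (c M)) ^ g = ∑ I : Finset (Fin g), ((-1 : ℤ) ^ I.card • toKR (c M) ^ I.card : KR X) := by
    have hs := Fintype.sum_pow_mul_eq_add_pow (Fin g) (-toKR (c M)) (1 : KR X)
    rw [Fintype.card_fin] at hs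
    rw [sub_eq_neg_add, ← hs]
    refine Finset.sum_congr rfl fun I _ => ?_
    rw [one_pow, mul_one, neg_pow, zsmul_eq_mul]
    push_cast
    rfl
  rw [h, map_sum]
  refine Finset.sum_congr rfl fun I _ => ?_
  obtain ⟨h1, h2⟩ := flf_tensorList hM ((I.sort (· ≤ ·)).map fun _ : Fin g => M) fun a ha => by
    obtain ⟨_, -, rfl⟩ := List.mem_map.1 ha
    rfl
  rw [List.length_map, Finset.length_sort] at h2
  rw [map_zsmul, smul_eq_mul, HilbLib.eulerCharLE_eq k _ hd]
  refine congrArg (fun z : ℤ => (-1 : ℤ) ^ I.card * z) ?_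
  refine (hχ _ (isFinLocFree_ten h1 isFinLocFree_one)).symm.trans (congrArg χ ?_)
  exact (mul_cl h1 isFinLocFree_one).symm.trans (by rw [toKR_one, mul_one, h2])

end Groth.Agent.AVEmbLib
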